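import Cfsg.Agent.H557.R2.FFour

/-!
# `Row2` for `E₆(K)`, `E₇(K)`, `E₈(K)` in characteristic two (S4829, helper557)

* `row2_data_one` : the row from the adjoint data of helper928 and a node fixed by the symmetries of the diagram;
* `row2_E6`, `row2_E7`, `row2_E8`, and the slots `slot_e6`, `slot_e7`, `slot_e8`, `slot_f4` (`F₄(2)` separately).
-/

set_option autoImplicit false
set_option linter.unusedSectionVars false

namespace Cfsg.Agent.H557.R2

open Cfsg Cfsg.Agent.H148.GG Cfsg.Agent.H40.OC Cfsg.Agent.H928.Ad Cfsg.Agent.H40.Ch Cfsg.Agent.H770.CY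

open CoxeterSystem Cfsg.Agent.ChevalleyStructure.CoxeterGeom Cfsg.Agent.Tits.Roots Cfsg.Agent.Tits.Core
  Cfsg.Agent.Nodes.Reps Cfsg.Agent.Nodes.BNOf Cfsg.Agent.Nodes.Bruhat Cfsg.Agent.Nodes.RGDLib Cfsg.Agent.H53.HC
open Cfsg.Agent.Omega.EH3.Kf.Lev (CommGen comm_of_sl)
open Cfsg.Lie Cfsg.Agent.ChevalleyStructure Cfsg.Agent.ChevalleyStructure.Elts Cfsg.Agent.ChevalleyStructure.NPerm
  Cfsg.Agent.Nodes.RGDChev Cfsg.Agent.H396.CommTab

local notation "SL2 " F => Matrix.SpecialLinearGroup (Fin 2) F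

universe u v

section data

variable {I W : Type*} {Y : Type u} [Fintype I] [DecidableEq I] [Group W] [Group Y] {M : CoxeterMatrix I}
  {cs : CoxeterSystem M W} {A : I → I → ℤ} {h : IsCartan M A} {T : Subgroup Y} {n : I → Y}
  {X : (I → ℤ) → Subgroup Y} {K : (I → ℤ) → Type v} [∀ z, Field (K z)] {x : ∀ z, K z → Y}

/-- **`Row2` for a group with adjoint data in characteristic two, a fixed node** -/
theorem row2_data_one [Finite W] [Finite Y] [IsSimpleGroup Y] {D : Subgroup (MulAut Y)} (H : Data cs h 2 T n X x D)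
    (hC : CommGen cs h X) {φ : ↥(Gad D) → ↥(Gad D)} (hφ : H92.GG.Anti cs h (Tad D) (Xad X D) φ)
    {a : I} {L : Type*} [Field L] [Finite L] [CharP L 2] {ψ : (SL2 L) →* Y} (N : H619.Gow.Nd cs h T n X a ψ)
    (hσ : ∀ σ : Equiv.Perm I, (∀ j k, M (σ j) (σ k) = M j k) →
      (∀ j, Nat.card (X (sr (σ j))) = Nat.card (X (sr j))) → σ a = a) : Row2 Y := by
  have : Fact (Nat.Prime 2) := ⟨Nat.prime_two⟩
  have A := H.adj
  have hfin : ∀ i : I, Finite (K (sr i)) := fun i =>
    Finite.of_injective _ (H.sys.inj _ (isRoot_sr cs h i))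
  have R : RGD cs h 2 (Tad D) (fun i => emb D (n i)) (Xad X D) := A.rgd
  let P := par A.sys A.full
  have hcomm : ∀ s ∈ Tad D, ∀ t ∈ Tad D, s * t = t * s := fun s hs t ht => A.comm s hs t ht
  have hXad : ∀ z, Xad X D z = (X z).map (emb D) := fun z => Xad_eq X D z
  have hC' : CommGen cs h (Xad X D) := by
    have h1 : Xad X D = fun z => (X z).map (emb D) := funext hXad
    rw [h1]
    exact H969.TT.DichIso.map_commGen (emb D) hC
  have hN := lin_of_commGen R hC' P.adj
  have hT := faithful R A.gen hcomm A.cen P.adj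
  have hUS : UU cs h (Xad X D) ≤ (emb D).range := by
    rw [← H.G1']
    exact RGD.Sup_mono fun x hx => hx.1
  have hn : (emb D).range.Normal := by
    constructor
    rintro _ ⟨y, rfl⟩ g
    refine ⟨(g : MulAut Y) y, Subtype.ext ?_⟩
    exact (mul_conj_inv (g : MulAut Y) y).symm
  have e : Y ≃* ↥(emb D).range := MonoidHom.ofInjective H.inj
  have hs : IsSimpleGroup ↥(emb D).range := e.isSimpleGroup_congr.1 inferInstance
  have hcard : ∀ z, Nat.card ↥(Xad X D z) = Nat.card ↥(X z) := fun z => by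
    rw [hXad]
    exact (Nat.card_congr ((X z).equivMapOfInjective (emb D) H.inj).toEquiv).symm
  have M1 := nd_map (T' := Tad D) (n' := fun i => emb D (n i)) (X' := Xad X D) N (emb D) H.inj (Xad_eq X D _)
    (fun t ht => H.tor t ht) rfl
  exact H776.CY.Row2.congr e
    (H655.R2.row2_two R P.adj A.gen hT (H356.AQ.anti148 hφ) hN hUS M1 fun σ _ h2 h3 _ => hσ σ h2 fun j => by
      rw [← hcard, ← hcard]
      exact h3 j)

end data

/-- **tabulated types with simply laced or `CommGen` structure** -/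
theorem row2_chev {D : ChevalleyDatum} {l : ℕ} {M : CoxeterMatrix (Fin l)} (hp : IsType D l M) (K : Type u) [Field K]
    [Finite K] [CharP K 2] (hs : IsSimpleGroup ↥(D.group K))
    (hC : CommGen M.toCoxeterSystem hp.isCartan (fun x => (XV D l K x).subgroupOf (D.group K))) (a : Fin l)
    (hσ : ∀ σ : Equiv.Perm (Fin l), (∀ j k, M (σ j) (σ k) = M j k) → σ a = a) : Row2 ↥(D.group K) := by
  have : Fact (Nat.Prime 2) := ⟨Nat.prime_two⟩
  have : Finite M.Group := finite_W hp M.toCoxeterSystem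
  obtain ⟨φ, -, hφ⟩ := Chev.anti (K := K) hp M.toCoxeterSystem 2
  exact row2_data_one (Chev.data (K := K) hp M.toCoxeterSystem 2) hC hφ (nd_chev hp M.toCoxeterSystem a)
    fun σ h1 _ => hσ σ h1

theorem row2_sl {D : ChevalleyDatum} {l : ℕ} {M : CoxeterMatrix (Fin l)} (hp : IsType D l M) (K : Type u) [Field K]
    [Finite K] [CharP K 2] (hs : IsSimpleGroup ↥(D.group K)) (h4 : ∀ i j, M i j ≠ 4) (h6 : ∀ i j, M i j ≠ 6)
    (a : Fin l) (hσ : ∀ σ : Equiv.Perm (Fin l), (∀ j k, M (σ j) (σ k) = M j k) → σ a = a) : Row2 ↥(D.group K) := by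
  have : Fact (Nat.Prime 2) := ⟨Nat.prime_two⟩
  have : Finite M.Group := finite_W hp M.toCoxeterSystem
  exact row2_chev hp K hs (comm_of_sl (rgd (K := K) hp M.toCoxeterSystem 2)
    (Cfsg.Agent.KFacts.RgdFiltWitt.sl_of_ne h4 h6)) a hσ

/-- the branch node is fixed -/
theorem fix_branch {l : ℕ} {M : CoxeterMatrix (Fin l)} {z a b c : Fin l} (hab : a ≠ b) (hac : a ≠ c) (hbc : b ≠ c)
    (ha : M z a = 3) (hb : M z b = 3) (hc : M z c = 3)
    (h : ∀ z', z' ≠ z → (Finset.univ.filter fun k => M.M z' k = 3).card ≤ 2) (σ : Equiv.Perm (Fin l))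
    (hσ : ∀ j k, M (σ j) (σ k) = M j k) : σ z = z := by
  by_contra hne
  have h1 := h (σ z) hne
  have h2 : ({σ a, σ b, σ c} : Finset (Fin l)).card = 3 :=
    Finset.card_eq_three.2 ⟨σ a, σ b, σ c, fun e => hab (σ.injective e), fun e => hac (σ.injective e),
      fun e => hbc (σ.injective e), rfl⟩
  have h3 : ({σ a, σ b, σ c} : Finset (Fin l)) ⊆ Finset.univ.filter fun k => M.M (σ z) k = 3 := by
    intro k hk
    simp only [Finset.mem_insert, Finset.mem_singleton] at hk
    rw [Finset.mem_filter]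
    refine ⟨Finset.mem_univ _, ?_⟩
    rcases hk with rfl | rfl | rfl
    · exact (hσ z a).trans ha
    · exact (hσ z b).trans hb
    · exact (hσ z c).trans hc
  have h4 := Finset.card_le_card h3
  omega

theorem br_E6 : ∀ z, z ≠ 3 → (Finset.univ.filter fun k => CoxeterMatrix.E₆.M z k = 3).card ≤ 2 := by
  decide +kernel

theorem br_E7 : ∀ z, z ≠ 3 → (Finset.univ.filter fun k => CoxeterMatrix.E₇.M z k = 3).card ≤ 2 := by
  decide +kernel

theorem br_E8 : ∀ z, z ≠ 3 → (Finset.univ.filter fun k => CoxeterMatrix.E₈.M z k = 3).card ≤ 2 := by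
  decide +kernel

variable (K : Type u) [Field K] [Finite K] [CharP K 2]

/-- **`Row2` for `E₆(K)`** -/
theorem row2_E6 : Row2 ↥(chevE6.group K) :=
  row2_sl (l := 6) (M := CoxeterMatrix.E₆) (by simp [IsType, typeList]) K (Cfsg.Agent.S1054.result chevE6 (by simp)).1
    (fun i j => (lab_E6 i j).1) (fun i j => (lab_E6 i j).2) 3
    (fix_branch (a := 1) (b := 2) (c := 4) (by decide) (by decide) (by decide) (by decide) (by decide) (by decide) br_E6)

/-- **`Row2` for `E₇(K)`** -/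
theorem row2_E7 : Row2 ↥(chevE7.group K) :=
  row2_sl (l := 7) (M := CoxeterMatrix.E₇) (by simp [IsType, typeList]) K (Cfsg.Agent.S1054.result chevE7 (by simp)).1
    (fun i j => (lab_E7 i j).1) (fun i j => (lab_E7 i j).2) 3
    (fix_branch (a := 1) (b := 2) (c := 4) (by decide) (by decide) (by decide) (by decide) (by decide) (by decide) br_E7)

/-- **`Row2` for `E₈(K)`** -/
theorem row2_E8 : Row2 ↥(chevE8.group K) :=
  row2_sl (l := 8) (M := CoxeterMatrix.E₈) (by simp [IsType, typeList]) K (Cfsg.Agent.S1054.result chevE8 (by simp)).1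
    (fun i j => (lab_E8 i j).1) (fun i j => (lab_E8 i j).2) 3
    (fix_branch (a := 1) (b := 2) (c := 4) (by decide) (by decide) (by decide) (by decide) (by decide) (by decide) br_E8)

end Cfsg.Agent.H557.R2

namespace Cfsg.Agent.H557.R2

open Cfsg Cfsg.Agent.H770.CY

/-- the slot `e6` of H802/R2/Plug.lean -/
theorem slot_e6 : RowFor2 (fun X _ => ∃ (F : Type) (_ : Field F) (_ : Fintype F) (_ : CharP F 2),
    Nonempty (X ≃* Lie.chevE6.group F)) := by
  intro X _ _ _ _ h
  obtain ⟨F, _, _, _, ⟨e⟩⟩ := h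
  exact H776.CY.Row2.congr e (row2_E6 F)

/-- the slot `e7` of H802/R2/Plug.lean -/
theorem slot_e7 : RowFor2 (fun X _ => ∃ (F : Type) (_ : Field F) (_ : Fintype F) (_ : CharP F 2),
    Nonempty (X ≃* Lie.chevE7.group F)) := by
  intro X _ _ _ _ h
  obtain ⟨F, _, _, _, ⟨e⟩⟩ := h
  exact H776.CY.Row2.congr e (row2_E7 F)

/-- the slot `e8` of H802/R2/Plug.lean -/
theorem slot_e8 : RowFor2 (fun X _ => ∃ (F : Type) (_ : Field F) (_ : Fintype F) (_ : CharP F 2),
    Nonempty (X ≃* Lie.chevE8.group F)) := by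
  intro X _ _ _ _ h
  obtain ⟨F, _, _, _, ⟨e⟩⟩ := h
  exact H776.CY.Row2.congr e (row2_E8 F)

/-- the slot `f4` of H802/R2/Plug.lean, `F₄(2)` separately -/
theorem slot_f4 (h2 : ∀ (F : Type) [Field F] [Fintype F] [CharP F 2], Fintype.card F = 2 → Row2 ↥(Lie.chevF4.group F)) :
    RowFor2 (fun X _ => ∃ (F : Type) (_ : Field F) (_ : Fintype F) (_ : CharP F 2),
      Nonempty (X ≃* Lie.chevF4.group F)) := by
  intro X _ _ _ _ h
  obtain ⟨F, _, _, _, ⟨e⟩⟩ := h
  by_cases h3 : Fintype.card F = 2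
  · exact H776.CY.Row2.congr e (h2 F h3)
  · refine H776.CY.Row2.congr e (row2_F4 F ?_)
    rw [Nat.card_eq_fintype_card]
    have := Fintype.one_lt_card (α := F)
    omega

end Cfsg.Agent.H557.R2
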