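import Cfsg.Agent.H557.R2.Pair
import Cfsg.Agent.H40.Ch.Chev
import Cfsg.Agent.H776.CY.Congr
import Cfsg.Agent.S1054

/-!
# `Row2` for `F₄(K)`, `|K| > 2` of characteristic two (S4829, helper557)

* `nd_chev` : the parametrised nodes of a Chevalley group; `nd_map`;
* `row2_data_pair` : the row from the adjoint data of helper928 and two orthogonal nodes;
* `row2_F4`.
-/

set_option autoImplicit false
set_option linter.unusedSectionVars false

namespace Cfsg.Agent.H557.R2

open Cfsg Cfsg.Agent.H148.GG Cfsg.Agent.H40.OC Cfsg.Agent.H928.Ad Cfsg.Agent.H40.Ch Cfsg.Agent.H770.CY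

open CoxeterSystem Cfsg.Agent.ChevalleyStructure.CoxeterGeom Cfsg.Agent.Tits.Roots Cfsg.Agent.Tits.Core
  Cfsg.Agent.Nodes.Reps Cfsg.Agent.Nodes.BNOf Cfsg.Agent.Nodes.Bruhat Cfsg.Agent.Nodes.RGDLib Cfsg.Agent.H53.HC
open Cfsg.Agent.Omega.EH3.Kf.Lev (CommGen)
open Cfsg.Agent.ChevalleyStructure.SL2Hom (up lo mem_closure_SL2)
open Cfsg.Agent.Nodes.RGDFoldSL (wS hS coe_wS coe_hS lo_eq psi psi_up psi_lo psi_wS psi_hS psi_mem)
open Cfsg.Lie Cfsg.Agent.ChevalleyStructure Cfsg.Agent.ChevalleyStructure.Elts Cfsg.Agent.ChevalleyStructure.NPerm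
  Cfsg.Agent.Nodes.RGDChev

local notation "SL2 " F => Matrix.SpecialLinearGroup (Fin 2) F

universe u v

section Chev

variable {D : ChevalleyDatum} {l : ℕ} {M : CoxeterMatrix (Fin l)} (hp : IsType D l M) {K : Type*} [Field K]

/-- the homomorphism of the node `i` -/
noncomputable def nh (i : Fin l) : (SL2 K) →* ↥(D.group K) :=
  (psi hp.inList K (D.simple i)).codRestrict (D.group K) fun g => by
    have h1 : D.rootSubgroup K (D.simple i) ⊔ D.rootSubgroup K (D.neg (D.simple i)) ≤ D.group K := by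
      rw [← XV_sr hp, ← XV_neg_sr hp]
      exact sup_le (XV_le_group hp _) (XV_le_group hp _)
    exact h1 (psi_mem hp.inList (simple_lt hp.inList (lt_rank hp i)) g)

theorem coe_nh (i : Fin l) (s : SL2 K) : ((nh hp i s : ↥(D.group K)) : GL D.Idx K) = psi hp.inList K (D.simple i) s := rfl

theorem nd_chev {W : Type*} [Group W] (cs : CoxeterSystem M W) (i : Fin l) :
    H619.Gow.Nd cs hp.isCartan ((D.diagonalSubgroup K).subgroupOf (D.group K))
      (fun i => (⟨nn hp K i, nn_mem_group hp i⟩ : ↥(D.group K)))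
      (fun x => (XV D l K x).subgroupOf (D.group K)) i (nh hp i) where
  mem_X g := by
    have hs := simple_lt hp.inList (lt_rank hp i)
    rw [Subgroup.mem_subgroupOf, XV_sr hp, mem_rootSubgroup_iff hp.inList]
    refine exists_congr fun a => ?_
    rw [← psi_up hp.inList hs, ← coe_nh hp]
    exact ⟨fun h => Subtype.ext h, fun h => congrArg Subtype.val h⟩
  w1 := by
    apply Subtype.ext
    rw [coe_nh, psi_wS hp.inList (simple_lt hp.inList (lt_rank hp i))]
    rfl
  h1 d hd := by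
    have hs := simple_lt hp.inList (lt_rank hp i)
    rw [Subgroup.mem_subgroupOf, coe_nh, psi_hS hp.inList hs]
    exact hG_mem_diagonal hp.inList hs hd
  inj_up a b hab := by
    have hs := simple_lt hp.inList (lt_rank hp i)
    have h1 := congrArg Subtype.val hab
    rw [coe_nh, coe_nh, psi_up hp.inList hs, psi_up hp.inList hs] at h1
    exact xG_injective hp.inList hs h1

end Chev

section map

variable {I W : Type*} {Y Z : Type*} [Fintype I] [DecidableEq I] [Group W] [Group Y] [Group Z] {M : CoxeterMatrix I}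
  {cs : CoxeterSystem M W} {A : I → I → ℤ} {h : IsCartan M A} {T : Subgroup Y} {n : I → Y}
  {X : (I → ℤ) → Subgroup Y} {T' : Subgroup Z} {n' : I → Z} {X' : (I → ℤ) → Subgroup Z}

theorem nd_map {i : I} {K : Type*} [Field K] {φ : (SL2 K) →* Y} (N : H619.Gow.Nd cs h T n X i φ) (f : Y →* Z)
    (hf : Function.Injective f) (hX : X' (sr i) = (X (sr i)).map f) (hT : ∀ t ∈ T, f t ∈ T') (hn : n' i = f (n i)) :
    H619.Gow.Nd cs h T' n' X' i (f.comp φ) where
  mem_X g := by
    rw [hX]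
    constructor
    · rintro ⟨y, hy, rfl⟩
      obtain ⟨a, rfl⟩ := (N.mem_X y).1 hy
      exact ⟨a, rfl⟩
    · rintro ⟨a, rfl⟩
      exact ⟨_, (N.mem_X _).2 ⟨a, rfl⟩, rfl⟩
  w1 := by rw [MonoidHom.comp_apply, N.w1, hn]
  h1 d hd := hT _ (N.h1 d hd)
  inj_up a b hab := N.inj_up a b (hf hab)

end map

section data

variable {I W : Type*} {Y : Type u} [Fintype I] [DecidableEq I] [Group W] [Group Y] {M : CoxeterMatrix I}
  {cs : CoxeterSystem M W} {A : I → I → ℤ} {h : IsCartan M A} {T : Subgroup Y} {n : I → Y}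
  {X : (I → ℤ) → Subgroup Y} {K : (I → ℤ) → Type v} [∀ z, Field (K z)] {x : ∀ z, K z → Y}

/-- **`Row2` for a group with adjoint data in characteristic two, two orthogonal nodes** -/
theorem row2_data_pair [Finite W] [Finite Y] [IsSimpleGroup Y] {D : Subgroup (MulAut Y)} (H : Data cs h 2 T n X x D)
    (hC : CommGen cs h X) {φ : ↥(Gad D) → ↥(Gad D)} (hφ : H92.GG.Anti cs h (Tad D) (Xad X D) φ)
    {a b : I} {L : Type*} [Field L] [Finite L] [CharP L 2] {ψ ψ' : (SL2 L) →* Y} (N : H619.Gow.Nd cs h T n X a ψ)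
    (N' : H619.Gow.Nd cs h T n X b ψ') (ho : Orth A {a} {b})
    (hσ : ∀ σ : Equiv.Perm I, (∀ j k, M (σ j) (σ k) = M j k) → (σ a = a ∧ σ b = b) ∨ (σ a = b ∧ σ b = a)) :
    Row2 Y := by
  have : Fact (Nat.Prime 2) := ⟨Nat.prime_two⟩
  have A := H.adj
  have hfin : ∀ i : I, Finite (K (sr i)) := fun i =>
    Finite.of_injective _ (H.sys.inj _ (isRoot_sr cs h i))
  have R : RGD cs h 2 (Tad D) (fun i => emb D (n i)) (Xad X D) := A.rgd
  let P := par A.sys A.full
  have hcomm : ∀ s ∈ Tad D, ∀ t ∈ Tad D, s * t = t * s := fun s hs t ht => A.comm s hs t ht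
  have hC' : CommGen cs h (Xad X D) := by
    have h1 : Xad X D = fun z => (X z).map (emb D) := funext fun z => Xad_eq X D z
    rw [h1]
    exact H969.TT.DichIso.map_commGen (emb D) hC
  have hN := lin_of_commGen R hC' P.adj
  have hT := faithful R A.gen hcomm A.cen P.adj
  have hUS : UU cs h (Xad X D) ≤ (emb D).range := by
    rw [← H.G1']
    exact RGD.Sup_mono fun x hx => hx.1
  have hn : (emb D).range.Normal := by
    constructor
    rintro _ ⟨y, rfl⟩ g
    refine ⟨(g : MulAut Y) y, Subtype.ext ?_⟩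
    exact (mul_conj_inv (g : MulAut Y) y).symm
  have e : Y ≃* ↥(emb D).range := MonoidHom.ofInjective H.inj
  have hs : IsSimpleGroup ↥(emb D).range := e.isSimpleGroup_congr.1 inferInstance
  have M1 := nd_map (T' := Tad D) (n' := fun i => emb D (n i)) (X' := Xad X D) N (emb D) H.inj (Xad_eq X D _)
    (fun t ht => H.tor t ht) rfl
  have M2 := nd_map (T' := Tad D) (n' := fun i => emb D (n i)) (X' := Xad X D) N' (emb D) H.inj (Xad_eq X D _)
    (fun t ht => H.tor t ht) rfl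
  exact H776.CY.Row2.congr e
    (row2_pair R P.adj A.gen hT (H356.AQ.anti148 hφ) hN hUS M1 M2 ho fun σ _ h2 _ _ => hσ σ h2)

end data

/-! ### `F₄` -/

theorem fun_F4 : ∀ f : Fin 4 → Fin 4,
    (∀ p : Fin 4 × Fin 4, CoxeterMatrix.F₄.M (f p.1) (f p.2) = CoxeterMatrix.F₄.M p.1 p.2) →
    (f 0 = 0 ∧ f 3 = 3) ∨ (f 0 = 3 ∧ f 3 = 0) := by
  decide +kernel

theorem perm_F4 (σ : Equiv.Perm (Fin 4)) (h : ∀ j k, CoxeterMatrix.F₄ (σ j) (σ k) = CoxeterMatrix.F₄ j k) :
    (σ 0 = 0 ∧ σ 3 = 3) ∨ (σ 0 = 3 ∧ σ 3 = 0) := fun_F4 σ fun p => h p.1 p.2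

theorem isType_F4 : IsType chevF4 4 CoxeterMatrix.F₄ := by simp [IsType, typeList]

theorem orth_F4 : Orth (CoxeterGeomTypes.cartanOf chevF4 4) {(0 : Fin 4)} {(3 : Fin 4)} := by
  rintro i rfl j rfl
  refine ⟨by decide, ?_, ?_⟩ <;> decide +kernel

/-- **`Row2` for `F₄(K)`, `|K| > 2`** -/
theorem row2_F4 (K : Type u) [Field K] [Finite K] [CharP K 2] (hK : 2 < Nat.card K) : Row2 ↥(chevF4.group K) := by
  have hK' : ∃ c : K, c ≠ 0 ∧ c ≠ 1 := by
    classical
    have : Fintype K := Fintype.ofFinite K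
    rw [Nat.card_eq_fintype_card] at hK
    have h5 : 1 ≤ (((Finset.univ : Finset K).erase 0).erase 1).card := by
      rw [Finset.card_erase_of_mem (by simp), Finset.card_erase_of_mem (by simp), Finset.card_univ]
      omega
    obtain ⟨a, ha⟩ := Finset.card_pos.1 h5
    simp only [Finset.mem_erase, Finset.mem_univ, and_true] at ha
    exact ⟨a, ha.2, ha.1⟩
  have : Fact (Nat.Prime 2) := ⟨Nat.prime_two⟩
  have hp := isType_F4
  have hW : Finite CoxeterMatrix.F₄.Group := finite_W hp CoxeterMatrix.F₄.toCoxeterSystem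
  have hS : IsSimpleGroup ↥(chevF4.group K) := (Cfsg.Agent.S1054.result chevF4 (by simp)).1
  obtain ⟨φ, -, hφ⟩ := Chev.anti (K := K) hp CoxeterMatrix.F₄.toCoxeterSystem 2
  exact row2_data_pair (Chev.data (K := K) hp CoxeterMatrix.F₄.toCoxeterSystem 2)
    (Omega.ML.Ex.Lie2.DatF4.commGen_F4 hK') hφ (nd_chev hp CoxeterMatrix.F₄.toCoxeterSystem 0)
    (nd_chev hp CoxeterMatrix.F₄.toCoxeterSystem 3) orth_F4 perm_F4

end Cfsg.Agent.H557.R2
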