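import Cfsg.Agent.H557.R2.Pi
import Cfsg.Agent.H655.R2.Two
import Cfsg.Agent.S0188

/-!
# `Row2` from two orthogonal nodes (S4829, helper557)

`a`, `b` orthogonal nodes with rank one groups `SL₂(K)`, `J = {a, b}`, `η` the rational irreducible character of odd
degree of `SL₂(K)`, `π, π' : P_J → SL₂(K)` the projections: `Θ = Ind_{P_J}((η ∘ π) (η ∘ π'))` has exactly one
constituent of odd degree and is fixed by the automorphisms which fix or interchange the classes of `P_a`, `P_b`.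

* `oneOdd_cusp2`, `oneOdd_gen2`;
* `row2_pair`.
-/

set_option autoImplicit false
set_option linter.unusedSectionVars false

namespace Cfsg.Agent.H557.R2

open scoped ComplexConjugate
open Cfsg Cfsg.Agent.H148.GG Cfsg.Agent.H743.GG Cfsg.Agent.H40.OC Cfsg.Agent.H641.Gow Cfsg.Agent.H53.HC
open Cfsg.Agent.Characters Cfsg.Agent.H151.OC Cfsg.Agent.H770.CY Cfsg.Agent.H655.R2

open CoxeterSystem Cfsg.Agent.ChevalleyStructure.CoxeterGeom Cfsg.Agent.Tits.Roots Cfsg.Agent.Tits.Core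
  Cfsg.Agent.Nodes.Reps Cfsg.Agent.Nodes.BNOf Cfsg.Agent.Nodes.Bruhat Cfsg.Agent.Nodes.LeviDec
  Cfsg.Agent.Nodes.StabComb Cfsg.Agent.Nodes.OppDec
open Cfsg.Agent.ChevalleyStructure.SL2Hom (up lo mem_closure_SL2)

local notation "SL2 " F => Matrix.SpecialLinearGroup (Fin 2) F

section prod

universe u v

variable {G : Type u} [Group G] [Fintype G] {H : Type v} [Group H] [Fintype H]

theorem indFun_prod (B : Subgroup G) (C : Subgroup H) (f : B → ℂ) (g : C → ℂ) (x : G × H) :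
    indFun (B.prod C) (fun p => f ⟨p.1.1, (Subgroup.mem_prod.1 p.2).1⟩ * g ⟨p.1.2, (Subgroup.mem_prod.1 p.2).2⟩) x =
      indFun B f x.1 * indFun C g x.2 := by
  classical
  have hcard : Nat.card (B.prod C) = Nat.card B * Nat.card C := by
    rw [← Nat.card_prod]
    exact Nat.card_congr (Subgroup.prodEquiv B C).toEquiv
  have hext : ∀ y : G × H, extendByZero (B.prod C)
      (fun p => f ⟨p.1.1, (Subgroup.mem_prod.1 p.2).1⟩ * g ⟨p.1.2, (Subgroup.mem_prod.1 p.2).2⟩) y =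
      extendByZero B f y.1 * extendByZero C g y.2 := by
    intro y
    by_cases h1 : y.1 ∈ B
    · by_cases h2 : y.2 ∈ C
      · rw [H76.OC.ext_apply_mem B f h1, H76.OC.ext_apply_mem C g h2,
          H76.OC.ext_apply_mem (B.prod C) _ (x := y) (Subgroup.mem_prod.2 ⟨h1, h2⟩)]
      · rw [H76.OC.ext_apply_not_mem C g h2, mul_zero,
          H76.OC.ext_apply_not_mem (B.prod C) _ (x := y) (fun h => h2 (Subgroup.mem_prod.1 h).2)]
    · rw [H76.OC.ext_apply_not_mem B f h1, zero_mul,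
        H76.OC.ext_apply_not_mem (B.prod C) _ (x := y) (fun h => h1 (Subgroup.mem_prod.1 h).1)]
  unfold indFun
  rw [hcard]
  have h3 : ∑ z : G × H, extendByZero (B.prod C)
      (fun p => f ⟨p.1.1, (Subgroup.mem_prod.1 p.2).1⟩ * g ⟨p.1.2, (Subgroup.mem_prod.1 p.2).2⟩) (z⁻¹ * x * z) =
      (∑ z : G, extendByZero B f (z⁻¹ * x.1 * z)) * ∑ z : H, extendByZero C g (z⁻¹ * x.2 * z) := by
    rw [Fintype.sum_prod_type, Finset.sum_mul_sum]
    refine Finset.sum_congr rfl fun z _ => Finset.sum_congr rfl fun w _ => ?_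
    rw [hext]
    rfl
  rw [h3]
  push_cast
  rw [mul_inv]
  ring

end prod

universe u

variable {I W : Type*} {Y : Type u} [Fintype I] [DecidableEq I] [Group W] [Group Y] {M : CoxeterMatrix I}
  {cs : CoxeterSystem M W} {A : I → I → ℤ} {h : IsCartan M A} {T : Subgroup Y} {n : I → Y}
  {X : (I → ℤ) → Subgroup Y} {F : I → Type*} [∀ i, Field (F i)]

variable {a b : I} {K : Type*} [Field K] [Fintype K] [CharP K 2] {φ φ' : (SL2 K) →* Y}

/-- sums over the root group -/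
theorem sum_root' (N : H619.Gow.Nd cs h T n X a φ) (U : Subgroup Y) [Fintype U] (hU : U = X (sr a)) (f : U → ℂ)
    (g : K → ℂ) (hfg : ∀ (c : K) (hc : φ (up c) ∈ U), f ⟨φ (up c), hc⟩ = g c) : ∑ u : U, f u = ∑ c : K, g c := by
  subst hU
  have hmem : ∀ c : K, φ (up c) ∈ X (sr a) := fun c => (N.mem_X _).2 ⟨c, rfl⟩
  symm
  refine Fintype.sum_bijective (fun c : K => (⟨φ (up c), hmem c⟩ : X (sr a))) ⟨?_, ?_⟩ _ _ fun c => (hfg c _).symm
  · intro c d hcd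
    exact N.inj_up c d (congrArg Subtype.val hcd)
  · rintro ⟨u, hu⟩
    obtain ⟨c, rfl⟩ := (N.mem_X u).1 hu
    exact ⟨c, rfl⟩

/-- a nontrivial additive character of the root group -/
theorem sum_char (N : H619.Gow.Nd cs h T n X a φ) {ψ : ↥(UJ cs h X Set.univ) →* ℂˣ}
    (hψ : H148.GG.Nd cs h X Set.univ ψ) (hmemU : ∀ c : K, φ (up c) ∈ UJ cs h X Set.univ) :
    (ψ ⟨φ (up 0), hmemU 0⟩ : ℂ) = 1 ∧ ∑ c : K, (ψ ⟨φ (up c), hmemU c⟩ : ℂ) = 0 := by
  constructor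
  · have e1 : (⟨φ (up 0), hmemU 0⟩ : ↥(UJ cs h X Set.univ)) = 1 := Subtype.ext (by
      show φ (up 0) = 1
      rw [H619.Gow.up_zero, map_one])
    rw [e1, map_one, Units.val_one]
  · obtain ⟨u, hu, hux, hne⟩ := hψ.ne a (Set.mem_univ a)
    obtain ⟨b, rfl⟩ := (N.mem_X u).1 hux
    have h4 : ∀ c : K, ψ ⟨φ (up (b + c)), hmemU (b + c)⟩ = ψ ⟨φ (up b), hmemU b⟩ * ψ ⟨φ (up c), hmemU c⟩ := by
      intro c
      rw [← map_mul]
      congr 1
      exact Subtype.ext (by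
        show φ (up (b + c)) = φ (up b) * φ (up c)
        rw [← H619.Gow.up_mul, map_mul])
    have h5 : ∑ c : K, ((ψ ⟨φ (up c), hmemU c⟩ : ℂˣ) : ℂ) =
        (ψ ⟨φ (up b), hmemU b⟩ : ℂ) * ∑ c : K, ((ψ ⟨φ (up c), hmemU c⟩ : ℂˣ) : ℂ) := by
      rw [Finset.mul_sum]
      refine (Fintype.sum_equiv (Equiv.addLeft b) _ _ fun c => ?_).symm
      have h6 := congrArg (fun z : ℂˣ => (z : ℂ)) (h4 c)
      exact h6.symm
    have h6 : (ψ ⟨φ (up b), hmemU b⟩ : ℂ) ≠ 1 := fun h7 => hne (Units.ext h7)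
    have h7 : (1 - (ψ ⟨φ (up b), hmemU b⟩ : ℂ)) * ∑ c : K, ((ψ ⟨φ (up c), hmemU c⟩ : ℂˣ) : ℂ) = 0 := by
      rw [sub_mul, one_mul, ← h5, sub_self]
    exact (mul_eq_zero.1 h7).resolve_left (sub_ne_zero.2 h6.symm)

section two

variable (N : H619.Gow.Nd cs h T n X a φ) (N' : H619.Gow.Nd cs h T n X b φ')
  (R : RGD cs h 2 T n X) (D : Adj T X F) (ho : Orth A {a} {b}) {J : Set I} (hJ : J = {a} ∪ {b})
  {π : ↥(PJ cs h T X J) →* (SL2 K)} (P : Pr cs h T X J b φ π) {π' : ↥(PJ cs h T X J) →* (SL2 K)}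
  (P' : Pr cs h T X J a φ' π')

include N N' R hJ P P'

theorem pi_mul (s s' : SL2 K) (hs : φ s * φ' s' ∈ PJ cs h T X J) : π ⟨φ s * φ' s', hs⟩ = s ∧
    π' ⟨φ s * φ' s', hs⟩ = s' := by
  have q1 : φ s ∈ PJ cs h T X J := MJ_le_a hJ (phi_mem_MJ N R _)
  have q2 : φ' s' ∈ PJ cs h T X J := MJ_le_b hJ (phi_mem_MJ N' R _)
  have e : (⟨φ s * φ' s', hs⟩ : ↥(PJ cs h T X J)) = ⟨φ s, q1⟩ * ⟨φ' s', q2⟩ := rfl
  rw [e, map_mul, map_mul, P.fix, P.mb _ (phi_mem_MJ N' R _), mul_one, P'.fix, P'.mb _ (phi_mem_MJ N R _), one_mul]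
  exact ⟨rfl, rfl⟩

include ho

/-- the unipotent group of `J` -/
theorem exists_UJ [Finite W] {u : Y} (hu : u ∈ UJ cs h X J) : ∃ c d : K, u = φ (up c) * φ' (up d) := by
  let V : Subgroup Y :=
    { carrier := {u | ∃ c d : K, u = φ (up c) * φ' (up d)}
      one_mem' := ⟨0, 0, by rw [H619.Gow.up_zero, map_one, map_one, mul_one]⟩
      mul_mem' := by
        rintro _ _ ⟨c, d, rfl⟩ ⟨c', d', rfl⟩
        refine ⟨c + c', d + d', ?_⟩
        rw [← H619.Gow.up_mul, ← H619.Gow.up_mul, map_mul, map_mul]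
        have h1 := phi_comm N N' R hJ ho (up c') (up d)
        calc φ (up c) * φ' (up d) * (φ (up c') * φ' (up d')) = φ (up c) * (φ' (up d) * φ (up c')) * φ' (up d') := by
              group
          _ = _ := by rw [← h1]; group
      inv_mem' := by
        rintro _ ⟨c, d, rfl⟩
        refine ⟨-c, -d, ?_⟩
        have h1 : ∀ x : K, (up (-x) : SL2 K) = (up x)⁻¹ := fun x => by
          rw [eq_inv_iff_mul_eq_one, H619.Gow.up_mul, neg_add_cancel, H619.Gow.up_zero]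
        rw [h1, h1, map_inv, map_inv, mul_inv_rev, ← mul_inv_rev, ← mul_inv_rev, phi_comm N N' R hJ ho] }
  have hle : UJ cs h X J ≤ V := by
    refine RGD.Sup_le fun y hy z hz => ?_
    have h2 : y ∈ RootsJ cs h ({a} ∪ {b}) := hJ ▸ PosJ_subset J hy
    rcases ho.roots h2 with h3 | h3
    · rcases H619.Gow.rootsJ_single h3 with rfl | rfl
      · obtain ⟨c, rfl⟩ := (N.mem_X z).1 hz
        exact ⟨c, 0, by rw [H619.Gow.up_zero, map_one, mul_one]⟩
      · exact absurd hy.2.1 (fun h4 => by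
          have h5 : (0 : ℤ) ≤ (-sr a : I → ℤ) a := h4 a
          rw [Pi.neg_apply, sr_self] at h5
          omega)
    · rcases H619.Gow.rootsJ_single h3 with rfl | rfl
      · obtain ⟨c, rfl⟩ := (N'.mem_X z).1 hz
        exact ⟨0, c, by rw [H619.Gow.up_zero, map_one, one_mul]⟩
      · exact absurd hy.2.1 (fun h4 => by
          have h5 : (0 : ℤ) ≤ (-sr b : I → ℤ) b := h4 b
          rw [Pi.neg_apply, sr_self] at h5
          omega)
  exact hle hu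

theorem up_mem_UJ (c d : K) : φ (up c) * φ' (up d) ∈ UJ cs h X J := by
  refine mul_mem ?_ ?_
  · refine RGD.le_Sup (X := X) (S := PosJ cs h J) ⟨isRoot_sr cs h a, sr_nonneg a, fun k hk => ?_⟩
      ((N.mem_X _).2 ⟨c, rfl⟩)
    refine sr_ne ?_
    rintro rfl
    exact hk (hJ ▸ Or.inl rfl)
  · refine RGD.le_Sup (X := X) (S := PosJ cs h J) ⟨isRoot_sr cs h b, sr_nonneg b, fun k hk => ?_⟩
      ((N'.mem_X _).2 ⟨d, rfl⟩)
    refine sr_ne ?_
    rintro rfl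
    exact hk (hJ ▸ Or.inr rfl)

/-- sums over `U_J` -/
theorem sum_UJ [Finite W] [Fintype ↥(UJ cs h X J)] (f : ↥(UJ cs h X J) → ℂ) (g : K → K → ℂ)
    (hfg : ∀ (c d : K) (hc : φ (up c) * φ' (up d) ∈ UJ cs h X J), f ⟨_, hc⟩ = g c d) :
    ∑ u : ↥(UJ cs h X J), f u = ∑ c : K, ∑ d : K, g c d := by
  have hmem := up_mem_UJ N N' R ho hJ P P'
  rw [← Fintype.sum_prod_type']
  symm
  refine Fintype.sum_bijective (fun p : K × K => (⟨φ (up p.1) * φ' (up p.2), hmem p.1 p.2⟩ : ↥(UJ cs h X J)))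
    ⟨?_, ?_⟩ _ _ fun p => (hfg p.1 p.2 _).symm
  · rintro ⟨c, d⟩ ⟨c', d'⟩ hcd
    have h1 : φ (up c) * φ' (up d) = φ (up c') * φ' (up d') := congrArg Subtype.val hcd
    have q : ∀ c d : K, φ (up c) * φ' (up d) ∈ PJ cs h T X J := fun c d =>
      mul_mem (MJ_le_a hJ (phi_mem_MJ N R _)) (MJ_le_b hJ (phi_mem_MJ N' R _))
    have h2 : (⟨_, q c d⟩ : ↥(PJ cs h T X J)) = ⟨_, q c' d'⟩ := Subtype.ext h1
    have h3 := congrArg π h2
    have h4 := congrArg π' h2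
    rw [(pi_mul N N' R hJ P P' _ _ _).1, (pi_mul N N' R hJ P P' _ _ _).1] at h3
    rw [(pi_mul N N' R hJ P P' _ _ _).2, (pi_mul N N' R hJ P P' _ _ _).2] at h4
    have h5 : ∀ x y : K, (up x : SL2 K) = up y → x = y := fun x y hxy => by
      have := congrArg (fun z : SL2 K => z.1 0 1) hxy
      simpa [H619.Gow.coe_up] using this
    exact Prod.ext (h5 _ _ h3) (h5 _ _ h4)
  · rintro ⟨u, hu⟩
    obtain ⟨c, d, rfl⟩ := exists_UJ N N' R ho hJ P P' hu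
    exact ⟨(c, d), rfl⟩

include D

/-- **`η` cuspidal** -/
theorem oneOdd_cusp2 [Finite W] [Fintype Y] [∀ i, Finite (F i)] (hG : GG cs h T X = ⊤)
    (hT : ∀ t : T, (∀ i, D.a i t = 1) → t = 1) (hm : MultOne cs h T X)
    (hN : ∀ f : ↥(UU cs h X) →* ℂˣ, ∀ u, (∀ i, co R D i u = 1) → f u = 1) {η : (SL2 K) → ℂ}
    (hη : IsIrrCharacter (SL2 K) η) (hc : ∑ a : K, η (up a) = 0) :
    OneOdd (indFun (PJ cs h T X J) ((fun p : (SL2 K) × (SL2 K) => η p.1 * η p.2) ∘ (π.prod π'))) := by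
  classical
  have : Fact (Nat.Prime 2) := ⟨Nat.prime_two⟩
  have hLP : ∀ {x : Y}, x ∈ LJ cs h T X J → x ∈ PJ cs h T X J := fun hx => LJ_le_PJ hx
  let fL : ↥(LJ cs h T X J) →* ((SL2 K) × (SL2 K)) := (π.prod π').comp (Subgroup.inclusion LJ_le_PJ)
  have ma : ∀ s : SL2 K, φ s ∈ MJ cs h X J := fun s => by
    rw [hJ]
    exact H627.Gow.MJ_mono Set.subset_union_left (phi_mem_MJ N R s)
  have mb : ∀ s : SL2 K, φ' s ∈ MJ cs h X J := fun s => by
    rw [hJ]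
    exact H627.Gow.MJ_mono Set.subset_union_right (phi_mem_MJ N' R s)
  have hfval : ∀ (s s' : SL2 K) (hs : φ s * φ' s' ∈ LJ cs h T X J), fL ⟨φ s * φ' s', hs⟩ = (s, s') := by
    intro s s' hs
    have h1 := pi_mul N N' R hJ P P' s s' (hLP hs)
    exact Prod.ext h1.1 h1.2
  have hfL : Function.Surjective fL := fun s =>
    ⟨⟨φ s.1 * φ' s.2, MJ_le_LJ _ (mul_mem (ma _) (mb _))⟩, hfval _ _ _⟩
  have hπL : ∀ g : ↥(PJ cs h T X J), π.prod π' g = fL (projL R J g) := by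
    intro g
    obtain ⟨l, hl, v, hv, e⟩ := (mem_PJ R).1 g.2
    have e2 : g = ⟨l, LJ_le_PJ hl⟩ * ⟨v, VJ_le_PJ hv⟩ := Subtype.ext e
    have e3 : projL R J g = ⟨l, hl⟩ := by rw [e2, map_mul, projL_L R hl, projL_V R hv, mul_one]
    have e4 : π.prod π' ⟨v, VJ_le_PJ hv⟩ = 1 := Prod.ext (P.vj v hv _) (P'.vj v hv _)
    rw [e3, e2, map_mul, e4, mul_one]
    rfl
  have hHC : indFun (PJ cs h T X J) ((fun p : (SL2 K) × (SL2 K) => η p.1 * η p.2) ∘ (π.prod π')) =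
      HC R J ((fun p : (SL2 K) × (SL2 K) => η p.1 * η p.2) ∘ fL) := by
    unfold HC
    congr 1
    funext g
    show (fun p : (SL2 K) × (SL2 K) => η p.1 * η p.2) (π.prod π' g) =
      (fun p : (SL2 K) × (SL2 K) => η p.1 * η p.2) (fL (projL R J g))
    rw [hπL]
  obtain ⟨ψ, hψ⟩ := exists_nd R D
  have : Fintype ↥(UJ cs h X J) := Fintype.ofFinite _
  have key := uniq_deg R D hG hT hm hN hψ J (Core.isIrr_comp fL hfL (Cfsg.Agent.S0188.isIrr_outer hη hη))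
    (fun j hj _ => ?_) ?_
  · rw [hHC]
    exact key
  · have hj' : j = a ∨ j = b := by
      rw [hJ] at hj
      exact hj
    rcases hj' with rfl | rfl
    · have hr : rad cs h X J j = X (sr j) := by
        rw [hJ, ho.rad_eq rfl, rad_single]
      rw [sum_root' N (rad cs h X J j) hr _ (fun c => η (up c) * η 1) fun c hc' => ?_, ← Finset.sum_mul, hc, zero_mul]
      have h3 := hfval (up c) 1 (by rw [map_one, mul_one]; exact MJ_le_LJ _ (ma _))
      have h4 : (⟨φ (up c), MJ_le_LJ _ (ma _)⟩ : ↥(LJ cs h T X J)) =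
          ⟨φ (up c) * φ' 1, by rw [map_one, mul_one]; exact MJ_le_LJ _ (ma _)⟩ :=
        Subtype.ext (by
          show φ (up c) = φ (up c) * φ' 1
          rw [map_one, mul_one])
      show (fun p : (SL2 K) × (SL2 K) => η p.1 * η p.2) (fL ⟨φ (up c), _⟩) = _
      rw [h4, h3]
    · have hr : rad cs h X J j = X (sr j) := by
        rw [hJ, Set.union_comm, ho.symm.rad_eq rfl, rad_single]
      rw [sum_root' N' (rad cs h X J j) hr _ (fun c => η 1 * η (up c)) fun c hc' => ?_, ← Finset.mul_sum, hc, mul_zero]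
      have h3 := hfval 1 (up c) (by rw [map_one, one_mul]; exact MJ_le_LJ _ (mb _))
      have h4 : (⟨φ' (up c), MJ_le_LJ _ (mb _)⟩ : ↥(LJ cs h T X J)) =
          ⟨φ 1 * φ' (up c), by rw [map_one, one_mul]; exact MJ_le_LJ _ (mb _)⟩ :=
        Subtype.ext (by
          show φ' (up c) = φ 1 * φ' (up c)
          rw [map_one, one_mul])
      show (fun p : (SL2 K) × (SL2 K) => η p.1 * η p.2) (fL ⟨φ' (up c), _⟩) = _
      rw [h4, h3]
  · -- nonvanishing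
    have hUJ := up_mem_UJ N N' R ho hJ P P'
    have hmemU : ∀ c : K, φ (up c) ∈ UJ cs h X Set.univ := fun c => H148.GG.UJ_le_U (by
      have := hUJ c 0
      rwa [H619.Gow.up_zero, map_one, mul_one] at this : φ (up c) ∈ UJ cs h X J)
    have hmemU' : ∀ c : K, φ' (up c) ∈ UJ cs h X Set.univ := fun c => H148.GG.UJ_le_U (by
      have := hUJ 0 c
      rwa [H619.Gow.up_zero, map_one, one_mul] at this : φ' (up c) ∈ UJ cs h X J)
    obtain ⟨s1, s2⟩ := sum_char N hψ hmemU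
    obtain ⟨s3, s4⟩ := sum_char N' hψ hmemU'
    have h3 := sum_up_ne hη hc (fun a => (ψ ⟨φ (up a), hmemU a⟩ : ℂ)) s1 s2
    have h3' := sum_up_ne hη hc (fun a => (ψ ⟨φ' (up a), hmemU' a⟩ : ℂ)) s3 s4
    rw [Core.classInner_def]
    refine mul_ne_zero (inv_ne_zero (Nat.cast_ne_zero.2 Nat.card_pos.ne')) ?_
    rw [sum_UJ N N' R ho hJ P P' _ (fun c d => (η (up c) * conj ((ψ ⟨φ (up c), hmemU c⟩ : ℂˣ) : ℂ)) *
      (η (up d) * conj ((ψ ⟨φ' (up d), hmemU' d⟩ : ℂˣ) : ℂ))) fun c d hcd => ?_, ← Finset.sum_mul_sum]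
    · exact mul_ne_zero h3 h3'
    · have h4 : ((ψ.comp (Subgroup.inclusion H148.GG.UJ_le_U)) ⟨φ (up c) * φ' (up d), hcd⟩ : ℂˣ) =
          ψ ⟨φ (up c), hmemU c⟩ * ψ ⟨φ' (up d), hmemU' d⟩ := by
        rw [← map_mul]
        rfl
      have h5 : fL (Subgroup.inclusion (H148.GG.UJ_le_LJ (cs := cs) (h := h) (T := T) (X := X) (J := J))
          ⟨φ (up c) * φ' (up d), hcd⟩) = (up c, up d) := hfval _ _ _
      show (fun p : (SL2 K) × (SL2 K) => η p.1 * η p.2)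
        (fL (Subgroup.inclusion (H148.GG.UJ_le_LJ (cs := cs) (h := h) (T := T) (X := X) (J := J))
          ⟨φ (up c) * φ' (up d), hcd⟩)) *
          conj (((ψ.comp (Subgroup.inclusion H148.GG.UJ_le_U)) ⟨φ (up c) * φ' (up d), hcd⟩ : ℂˣ) : ℂ) = _
      rw [h4, h5, Units.val_mul, map_mul]
      ring

/-- **`η` induced from the upper triangular subgroup** -/
theorem oneOdd_gen2 [Finite W] [Fintype Y] [∀ i, Finite (F i)] (hG : GG cs h T X = ⊤)
    (hT : ∀ t : T, (∀ i, D.a i t = 1) → t = 1) (hm : MultOne cs h T X)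
    (hN : ∀ f : ↥(UU cs h X) →* ℂˣ, ∀ u, (∀ i, co R D i u = 1) → f u = 1) [Fintype (SL2 K)] {η : (SL2 K) → ℂ}
    (lam : Bo K →* ℂˣ) (hlam : ∀ (a : K) (ha : up a ∈ Bo K), lam ⟨_, ha⟩ = 1)
    (hη : η = indFun (Bo K) (fun b => (lam b : ℂ))) :
    OneOdd (indFun (PJ cs h T X J) ((fun p : (SL2 K) × (SL2 K) => η p.1 * η p.2) ∘ (π.prod π'))) := by
  classical
  have : Fact (Nat.Prime 2) := ⟨Nat.prime_two⟩
  let _ : Fintype ↥(PJ cs h T X J) := Fintype.ofFinite _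
  have hmem : ∀ {x : Y} (hx : x ∈ PJ cs h T X J), x ∈ RGD.B cs h T X ↔ π ⟨x, hx⟩ ∈ Bo K ∧ π' ⟨x, hx⟩ ∈ Bo K :=
    fun hx => mem_B_iff N N' R ho hJ P P' hx
  have hπB : ∀ b : ↥(RGD.B cs h T X), π ⟨b, B_le_PJ b.2⟩ ∈ Bo K := fun b => ((hmem _).1 b.2).1
  have hπB' : ∀ b : ↥(RGD.B cs h T X), π' ⟨b, B_le_PJ b.2⟩ ∈ Bo K := fun b => ((hmem _).1 b.2).2
  let l1 : ↥(RGD.B cs h T X) →* ℂˣ := lam.comp
    ((π.comp (Subgroup.inclusion B_le_PJ)).codRestrict (Bo K) fun b => hπB b)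
  let l2 : ↥(RGD.B cs h T X) →* ℂˣ := lam.comp
    ((π'.comp (Subgroup.inclusion B_le_PJ)).codRestrict (Bo K) fun b => hπB' b)
  have hπs : Function.Surjective (π.prod π') := fun s => by
    have q : φ s.1 * φ' s.2 ∈ PJ cs h T X J :=
      mul_mem (MJ_le_a hJ (phi_mem_MJ N R _)) (MJ_le_b hJ (phi_mem_MJ N' R _))
    have h1 := pi_mul N N' R hJ P P' s.1 s.2 q
    exact ⟨⟨_, q⟩, Prod.ext h1.1 h1.2⟩
  have hcomap : ((Bo K).prod (Bo K)).comap (π.prod π') = (RGD.B cs h T X).subgroupOf (PJ cs h T X J) := by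
    ext g
    rw [Subgroup.mem_comap, Subgroup.mem_subgroupOf, Subgroup.mem_prod, hmem g.2]
    rfl
  have hind : indFun (PJ cs h T X J) ((fun p : (SL2 K) × (SL2 K) => η p.1 * η p.2) ∘ (π.prod π')) =
      indFun (RGD.B cs h T X) (fun b => (((l1 * l2) b : ℂˣ) : ℂ)) := by
    rw [← Cfsg.Agent.S0147.result (RGD.B cs h T X) (PJ cs h T X J) B_le_PJ (fun b => (((l1 * l2) b : ℂˣ) : ℂ))]
    congr 1
    funext g
    rw [Function.comp_apply, hη]
    have h0 := indFun_prod (Bo K) (Bo K) (fun b => (lam b : ℂ)) (fun b => (lam b : ℂ)) (π.prod π' g)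
    show indFun (Bo K) (fun b => (lam b : ℂ)) (π.prod π' g).1 * indFun (Bo K) (fun b => (lam b : ℂ)) (π.prod π' g).2 = _
    rw [← h0, indFun_comp_surj (π.prod π') hπs]
    have key : ∀ (C : Subgroup ↥(PJ cs h T X J)) (hC : C = (RGD.B cs h T X).subgroupOf (PJ cs h T X J))
        (f : C → ℂ) (f' : ↥((RGD.B cs h T X).subgroupOf (PJ cs h T X J)) → ℂ)
        (hf : ∀ (x : ↥(PJ cs h T X J)) (hx : x ∈ C) (hx' : x ∈ (RGD.B cs h T X).subgroupOf (PJ cs h T X J)),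
          f ⟨x, hx⟩ = f' ⟨x, hx'⟩), indFun C f g = indFun ((RGD.B cs h T X).subgroupOf (PJ cs h T X J)) f' g := by
      intro C hC f f' hf
      subst hC
      congr 1
      funext x
      exact hf x x.2 x.2
    refine key _ hcomap _ _ fun x hx hx' => ?_
    rw [MonoidHom.mul_apply, Units.val_mul]
    rfl
  rw [hind]
  refine uniq_B R D hG hT hm hN (l1 * l2) ?_
  intro u hu
  have huB : u ∈ RGD.B cs h T X := RGD.U_le_B hu
  obtain ⟨k, hk⟩ := R.isPGroup_Upos ⟨u, hu⟩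
  have hk' : u ^ 2 ^ k = 1 := congrArg Subtype.val hk
  have e3 : (⟨u, B_le_PJ huB⟩ : ↥(PJ cs h T X J)) ^ 2 ^ k = 1 := Subtype.ext hk'
  have hs0 := (hmem (B_le_PJ huB)).1 huB
  rw [MonoidHom.mul_apply]
  have r1 : l1 ⟨u, RGD.U_le_B hu⟩ = 1 := by
    obtain ⟨b, hb⟩ := exists_up (k := k) (mem_Bo.1 hs0.1) (by rw [← map_pow, e3, map_one])
    have e4 : ((π.comp (Subgroup.inclusion B_le_PJ)).codRestrict (Bo K) fun b => hπB b) ⟨u, RGD.U_le_B hu⟩ =
        ⟨up b, up_mem_Bo b⟩ := Subtype.ext hb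
    show lam _ = 1
    rw [← hlam b (up_mem_Bo b), ← e4]
  have r2 : l2 ⟨u, RGD.U_le_B hu⟩ = 1 := by
    obtain ⟨b, hb⟩ := exists_up (k := k) (mem_Bo.1 hs0.2) (by rw [← map_pow, e3, map_one])
    have e4 : ((π'.comp (Subgroup.inclusion B_le_PJ)).codRestrict (Bo K) fun b => hπB' b) ⟨u, RGD.U_le_B hu⟩ =
        ⟨up b, up_mem_Bo b⟩ := Subtype.ext hb
    show lam _ = 1
    rw [← hlam b (up_mem_Bo b), ← e4]
  rw [r1, r2, mul_one]

end two

/-! ### automorphisms -/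

/-- an automorphism mapping `Q₂` to `Q₁` maps the core of `Q₂` to the core of `Q₁` -/
theorem orderOf_core {S P0 Q1 Q2 : Subgroup Y} {H1 H2 : Type*} [Group H1] [Group H2] (π1 : ↥P0 →* H1)
    (π2 : ↥P0 →* H2) (h1 : ∀ (x : Y) (hx : x ∈ P0), π1 ⟨x, hx⟩ = 1 ↔ ∀ g ∈ P0, g ∈ S → g * x * g⁻¹ ∈ Q1)
    (h2 : ∀ (x : Y) (hx : x ∈ P0), π2 ⟨x, hx⟩ = 1 ↔ ∀ g ∈ P0, g ∈ S → g * x * g⁻¹ ∈ Q2) {β : MulAut S}
    (hP : ∀ x : S, (β x : Y) ∈ P0 ↔ (x : Y) ∈ P0) (hQ : ∀ x : S, (β x : Y) ∈ Q1 ↔ (x : Y) ∈ Q2) (x : S)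
    (hx : (x : Y) ∈ P0) (hx' : (β x : Y) ∈ P0) : orderOf (π1 ⟨β x, hx'⟩) = orderOf (π2 ⟨x, hx⟩) := by
  have key : ∀ (x : S) (hx : (x : Y) ∈ P0) (hx' : (β x : Y) ∈ P0), π1 ⟨β x, hx'⟩ = 1 ↔ π2 ⟨x, hx⟩ = 1 := by
    intro x hx hx'
    rw [h1, h2]
    constructor
    · intro h3 g hg hgS
      have h4 := h3 (β ⟨g, hgS⟩ : S) ((hP _).2 hg) (β ⟨g, hgS⟩).2
      have h5 : ((β ⟨g, hgS⟩ : S) : Y) * (β x : S) * ((β ⟨g, hgS⟩ : S) : Y)⁻¹ =
          ((β (⟨g, hgS⟩ * x * ⟨g, hgS⟩⁻¹) : S) : Y) := by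
        rw [map_mul, map_mul, map_inv]
        rfl
      rw [h5, hQ] at h4
      exact h4
    · intro h3 g hg hgS
      obtain ⟨z, hz⟩ := β.surjective ⟨g, hgS⟩
      have hg' : (β z : Y) = g := congrArg Subtype.val hz
      have h4 := h3 (z : Y) ((hP _).1 (by rw [hg']; exact hg)) z.2
      have h5 : g * (β x : S) * g⁻¹ = ((β (z * x * z⁻¹) : S) : Y) := by
        rw [map_mul, map_mul, map_inv, hz]
        rfl
      rw [h5, hQ]
      exact h4
  rw [orderOf_eq_orderOf_iff]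
  intro m
  have h3 := key (x ^ m) (pow_mem hx m) (by rw [map_pow]; exact pow_mem hx' m)
  have h4 : (⟨(β (x ^ m) : S), by rw [map_pow]; exact pow_mem hx' m⟩ : ↥P0) = ⟨β x, hx'⟩ ^ m :=
    Subtype.ext (congrArg (Subtype.val : S → Y) (map_pow β x m))
  have h5 : (⟨((x ^ m : S) : Y), pow_mem hx m⟩ : ↥P0) = ⟨x, hx⟩ ^ m := rfl
  rw [h4, h5, map_pow, map_pow] at h3
  exact h3

/-- **`Row2` from two orthogonal nodes** -/
theorem row2_pair [Finite W] [Finite Y] [∀ i, Finite (F i)] (R : RGD cs h 2 T n X) (D : Adj T X F)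
    (hG : GG cs h T X = ⊤) (hT : ∀ t : T, (∀ i, D.a i t = 1) → t = 1) {an : Y → Y} (han : H148.GG.Anti R an)
    (hN : ∀ f : ↥(UU cs h X) →* ℂˣ, ∀ u, (∀ i, co R D i u = 1) → f u = 1)
    {S : Subgroup Y} [S.Normal] [IsSimpleGroup S] (hUS : UU cs h X ≤ S)
    {a b : I} {K : Type*} [Field K] [Finite K] [CharP K 2] {φ φ' : (SL2 K) →* Y}
    (N : H619.Gow.Nd cs h T n X a φ) (N' : H619.Gow.Nd cs h T n X b φ') (ho : Orth A {a} {b})
    (hσ : ∀ σ : Equiv.Perm I, (∀ j k, (σ j ≠ σ k ∧ M (σ j) (σ k) ≠ 2) ↔ (j ≠ k ∧ M j k ≠ 2)) →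
      (∀ j k, M (σ j) (σ k) = M j k) →
      (∀ j, Nat.card (X (sr (σ j))) = Nat.card (X (sr j))) → (∃ k, σ ^ 2 ^ k = 1) →
      (σ a = a ∧ σ b = b) ∨ (σ a = b ∧ σ b = a)) : Row2 S := by
  classical
  have : Fact (Nat.Prime 2) := ⟨Nat.prime_two⟩
  have : Nonempty I := ⟨a⟩
  let _ : Fintype K := Fintype.ofFinite K
  let _ : Fintype (SL2 K) := Fintype.ofFinite _
  have hodd : Odd (Nat.card T) := by
    have := R.tcop
    exact Nat.coprime_two_right.1 this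
  have hm : MultOne cs h T X := multOne_odd R D han hodd
  have hTc := comm_T D hT
  obtain ⟨J, hJ⟩ : ∃ J : Set I, J = {a} ∪ {b} := ⟨_, rfl⟩
  have hJ' : J = {b} ∪ {a} := by rw [hJ, Set.union_comm]
  obtain ⟨π, P⟩ := exists_pr N R hTc ho hJ
  obtain ⟨π', P'⟩ := exists_pr N' R hTc ho.symm hJ'
  obtain ⟨η, e1, e2, e3, e4, e5⟩ := eta K
  have hφS := phi_mem_S N R hUS
  have hφS' := phi_mem_S N' R hUS
  obtain ⟨d, hd0, hd⟩ := Core.isIrr_apply_one e1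
  refine row2_core R D hG hT hm hN hUS (J := J) (π.prod π') ?_ (Cfsg.Agent.S0188.isIrr_outer e1 e1) ?_ ?_ ?_ ?_ ?_
  · rintro ⟨s, s'⟩
    have q : φ s * φ' s' ∈ PJ cs h T X J := mul_mem (MJ_le_a hJ (phi_mem_MJ N R _)) (MJ_le_b hJ (phi_mem_MJ N' R _))
    have h1 := pi_mul N N' R hJ P P' s s' q
    exact ⟨⟨⟨φ s * φ' s', mul_mem (hφS s) (hφS' s')⟩, Subgroup.mem_subgroupOf.2 q⟩, Prod.ext h1.1 h1.2⟩
  · intro h1
    apply e2
    have h2 : ∀ s s' : SL2 K, η s * η s' = 1 := fun s s' => congrFun h1 (s, s')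
    have h3 := h2 1 1
    rw [hd] at h3
    have h4 : d * d = 1 := by exact_mod_cast h3
    have h5 : d = 1 := Nat.eq_one_of_mul_eq_one_right h4
    funext s
    have h6 := h2 s 1
    rw [hd, h5, Nat.cast_one, mul_one] at h6
    exact h6
  · have h1 : charDegree (fun x : (SL2 K) × (SL2 K) => η x.1 * η x.2) = d * d :=
      Cfsg.Agent.Blocks.Basic.charDegree_of_eq (by
        show η 1 * η 1 = _
        rw [hd, Nat.cast_mul])
    rw [h1]
    rw [Cfsg.Agent.Blocks.Basic.charDegree_of_eq hd] at e3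
    intro h2
    rcases (Nat.Prime.dvd_mul Nat.prime_two).1 h2 with h3 | h3
    · exact e3 h3
    · exact e3 h3
  · rintro k hk ⟨x, y⟩
    rw [Nat.card_prod] at hk
    have hk' : k.Coprime (Nat.card (SL2 K)) := hk.coprime_dvd_right (Dvd.intro _ rfl)
    have h1 : ∀ x : SL2 K, η (x ^ k) = η x := fun x =>
      e4 _ _ (hk'.symm.coprime_dvd_left (orderOf_dvd_natCard x)).orderOf_pow
    show η (x ^ k) * η (y ^ k) = η x * η y
    rw [h1, h1]
  · intro _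
    rcases e5 with e5 | ⟨B', lam, e6, e7, e8⟩
    · exact oneOdd_cusp2 N N' R D ho hJ P P' hG hT hm hN e1 e5
    · obtain rfl : B' = Bo K := by
        ext g
        exact (e6 g).trans mem_Bo.symm
      exact oneOdd_gen2 N N' R D ho hJ P P' hG hT hm hN lam e7 e8
  · intro α hα
    obtain ⟨n', -, RS, hGS, hBS, hPS⟩ := H992.R2.rgd_restr R hG hUS
    obtain ⟨k, hk⟩ := hα
    obtain ⟨s, hs⟩ := H40.R2.exists_conj_perm' RS hGS (H76.OC.isPGroup_zpowers (p := 2) hk)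
    obtain ⟨β, hβ, -, σ, h1, h2, h3, h4, h5⟩ := hs α (Subgroup.mem_zpowers α)
    have hX : ∀ j : I, Nat.card ↥((X (sr j)).subgroupOf S) = Nat.card (X (sr j)) := fun j =>
      Nat.card_congr (Subgroup.subgroupOfEquivOfLe (H151.OC.X_le_of_U_le R hUS (isRoot_sr cs h j))).toEquiv
    have hi := hσ σ h1 h2 (fun j => by
      have h6 := h3 j
      rw [hX, hX] at h6
      exact h6) h4
    have hmap : ∀ J1 J2 : Set I, σ '' J1 = J2 →
        ((PJ cs h T X J1).subgroupOf S).map β.toMonoidHom = (PJ cs h T X J2).subgroupOf S := by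
      intro J1 J2 hJ12
      have h6 := h5 J1
      rw [hJ12, hPS, hPS] at h6
      exact h6
    have hmem : ∀ J1 J2 : Set I, σ '' J1 = J2 → ∀ x : S, (β x : Y) ∈ PJ cs h T X J2 ↔ (x : Y) ∈ PJ cs h T X J1 := by
      intro J1 J2 hJ12 x
      have h6 := hmap J1 J2 hJ12
      have h7 : β x ∈ (PJ cs h T X J2).subgroupOf S ↔ x ∈ (PJ cs h T X J1).subgroupOf S := by
        rw [← h6]
        constructor
        · rintro ⟨y, hy, hyx⟩
          rwa [β.injective hyx] at hy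
        · intro hx
          exact ⟨x, hx, rfl⟩
      exact h7
    have q1 : ∀ (x : Y) (hx : x ∈ PJ cs h T X J), π ⟨x, hx⟩ = 1 ↔ ∀ g ∈ PJ cs h T X J, g ∈ S →
        g * x * g⁻¹ ∈ PJ cs h T X {b} := fun x hx => eq_one_iff N N' R ho hJ P P' hφS hx
    have q2 : ∀ (x : Y) (hx : x ∈ PJ cs h T X J), π' ⟨x, hx⟩ = 1 ↔ ∀ g ∈ PJ cs h T X J, g ∈ S →
        g * x * g⁻¹ ∈ PJ cs h T X {a} := fun x hx => eq_one_iff N' N R ho.symm hJ' P' P hφS' hx
    rcases hi with ⟨ha, hb⟩ | ⟨ha, hb⟩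
    · have hJJ : σ '' J = J := by rw [hJ, Set.image_union, Set.image_singleton, Set.image_singleton, ha, hb]
      refine ⟨s, β, hβ, hmap J J hJJ, fun x hx hx' => ?_⟩
      have c1 := orderOf_core π π q1 q1 (hmem J J hJJ) (hmem {b} {b} (by rw [Set.image_singleton, hb])) x
        (Subgroup.mem_subgroupOf.1 hx) (Subgroup.mem_subgroupOf.1 hx')
      have c2 := orderOf_core π' π' q2 q2 (hmem J J hJJ) (hmem {a} {a} (by rw [Set.image_singleton, ha])) x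
        (Subgroup.mem_subgroupOf.1 hx) (Subgroup.mem_subgroupOf.1 hx')
      show η (π ⟨β x, Subgroup.mem_subgroupOf.1 hx'⟩) * η (π' ⟨β x, Subgroup.mem_subgroupOf.1 hx'⟩) =
        η (π ⟨x, Subgroup.mem_subgroupOf.1 hx⟩) * η (π' ⟨x, Subgroup.mem_subgroupOf.1 hx⟩)
      rw [e4 _ _ c1, e4 _ _ c2]
    · have hJJ : σ '' J = J := by
        rw [hJ, Set.image_union, Set.image_singleton, Set.image_singleton, ha, hb, Set.union_comm]
      refine ⟨s, β, hβ, hmap J J hJJ, fun x hx hx' => ?_⟩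
      have c1 := orderOf_core π π' q1 q2 (hmem J J hJJ) (hmem {a} {b} (by rw [Set.image_singleton, ha])) x
        (Subgroup.mem_subgroupOf.1 hx) (Subgroup.mem_subgroupOf.1 hx')
      have c2 := orderOf_core π' π q2 q1 (hmem J J hJJ) (hmem {b} {a} (by rw [Set.image_singleton, hb])) x
        (Subgroup.mem_subgroupOf.1 hx) (Subgroup.mem_subgroupOf.1 hx')
      show η (π ⟨β x, Subgroup.mem_subgroupOf.1 hx'⟩) * η (π' ⟨β x, Subgroup.mem_subgroupOf.1 hx'⟩) =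
        η (π ⟨x, Subgroup.mem_subgroupOf.1 hx⟩) * η (π' ⟨x, Subgroup.mem_subgroupOf.1 hx⟩)
      rw [e4 _ _ c1, e4 _ _ c2, mul_comm]

end Cfsg.Agent.H557.R2
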