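import Cfsg.Agent.H619.Gow.LeviSplit
import Cfsg.Agent.H641.Gow.Rgd
import Cfsg.Agent.H627.Gow.Rgd

/-!
# Two orthogonal nodes in characteristic two (S4829, `Row2` of `F₄`; helper557)

`a`, `b` orthogonal nodes with rank one groups `SL₂(F)`, `SL₂(F')`, `J = {a, b}`.

* `Pr` : the projection `π : P_J → SL₂(F)` of the node `a`; `exists_pr`;
* `mem_PJ_iff` : `x ∈ P_b ↔ π x` is upper triangular;
* `eq_one_iff` : `π x = 1` iff all conjugates of `x` under `P_J ∩ S` lie in `P_b`.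
-/

set_option autoImplicit false
set_option linter.unusedSectionVars false

open Cfsg

namespace Cfsg.Agent.H557.R2

open CoxeterSystem Cfsg.Agent.ChevalleyStructure.CoxeterGeom Cfsg.Agent.Tits.Roots Cfsg.Agent.Tits.Core
  Cfsg.Agent.Tits.Exchange Cfsg.Agent.Nodes.Reps Cfsg.Agent.Nodes.BNOf Cfsg.Agent.Nodes.StabComb
  Cfsg.Agent.Nodes.Bruhat Cfsg.Agent.Nodes.OppDec Cfsg.Agent.Nodes.LeviDec Cfsg.Agent.H53.HC
open Cfsg.Agent.ChevalleyStructure.SL2Hom (up lo mem_closure_SL2)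
open Cfsg.Agent.Nodes.RGDFoldSL (wS hS coe_wS coe_hS lo_eq)
open Cfsg.Agent.H619.Gow

local notation "SL2 " F => Matrix.SpecialLinearGroup (Fin 2) F

section mat

variable {F : Type*} [Field F]

/-- the upper triangular matrices -/
def Bo (F : Type*) [Field F] : Subgroup (SL2 F) where
  carrier := {g | g.1 1 0 = 0}
  one_mem' := by simp
  mul_mem' := by
    intro g k hg hk
    have hg' : g.1 1 0 = 0 := hg
    have hk' : k.1 1 0 = 0 := hk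
    show (g * k).1 1 0 = 0
    rw [Matrix.SpecialLinearGroup.coe_mul, Matrix.mul_apply, Fin.sum_univ_two, hg', hk', zero_mul, mul_zero, add_zero]
  inv_mem' := by
    intro g hg
    have hg' : g.1 1 0 = 0 := hg
    show (g⁻¹).1 1 0 = 0
    rw [Matrix.SpecialLinearGroup.coe_inv, Matrix.adjugate_fin_two]
    simp [hg']

theorem mem_Bo {g : SL2 F} : g ∈ Bo F ↔ g.1 1 0 = 0 := Iff.rfl

theorem up_mem_Bo (c : F) : (up c : SL2 F) ∈ Bo F := by
  rw [mem_Bo, coe_up]; simp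

theorem hS_mem_Bo {u : F} (hu : u ≠ 0) : (hS u : SL2 F) ∈ Bo F := by
  rw [mem_Bo, coe_hS hu]; simp

/-- an upper triangular matrix is a product of a diagonal and a unipotent one -/
theorem exists_of_Bo {g : SL2 F} (hg : g ∈ Bo F) : ∃ u : F, u ≠ 0 ∧ ∃ c : F, g = hS u * up c := by
  have h0 : g.1 1 0 = 0 := hg
  have h1 := g.2
  rw [Matrix.det_fin_two, h0, mul_zero, sub_zero] at h1
  have hu : g.1 0 0 ≠ 0 := left_ne_zero_of_mul_eq_one h1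
  refine ⟨g.1 0 0, hu, (g.1 0 0)⁻¹ * g.1 0 1, ?_⟩
  apply Subtype.ext
  rw [Matrix.SpecialLinearGroup.coe_mul, coe_hS hu, coe_up, Matrix.mul_fin_two]
  have h2 : g.1 1 1 = (g.1 0 0)⁻¹ := eq_inv_of_mul_eq_one_right h1
  ext i j
  fin_cases i <;> fin_cases j
  · simp
  · simp [hu]
  · simpa using h0
  · simpa using h2

/-- the core of the upper triangular matrices -/
theorem eq_one_of_core [CharP F 2] {y : SL2 F} (h : ∀ s : SL2 F, s * y * s⁻¹ ∈ Bo F) : y = 1 := by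
  have h0 : y.1 1 0 = 0 := by
    have := h 1
    rw [one_mul, inv_one, mul_one] at this
    exact this
  have h1 : y.1 0 1 = 0 := by
    have h2 := h (wS 1)
    rw [mem_Bo, Matrix.SpecialLinearGroup.coe_mul, Matrix.SpecialLinearGroup.coe_mul,
      Matrix.SpecialLinearGroup.coe_inv, coe_wS one_ne_zero, Matrix.adjugate_fin_two, Matrix.eta_fin_two y.1,
      Matrix.mul_fin_two, Matrix.mul_fin_two] at h2
    simpa [h0] using h2
  have h3 : y.1 0 0 = y.1 1 1 := by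
    have h2 := h (lo 1)
    rw [mem_Bo, Matrix.SpecialLinearGroup.coe_mul, Matrix.SpecialLinearGroup.coe_mul,
      Matrix.SpecialLinearGroup.coe_inv, coe_lo, Matrix.adjugate_fin_two, Matrix.eta_fin_two y.1,
      Matrix.mul_fin_two, Matrix.mul_fin_two] at h2
    simp [h0, h1] at h2
    linear_combination h2
  have h4 := y.2
  rw [Matrix.det_fin_two, h0, h1, zero_mul, sub_zero, ← h3] at h4
  have h5 : y.1 0 0 = 1 := by
    have h8 : (y.1 0 0 - 1) * (y.1 0 0 - 1) = 0 := by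
      have h9 : (y.1 0 0 - 1) * (y.1 0 0 - 1) = y.1 0 0 * y.1 0 0 + 1 - 2 * y.1 0 0 := by ring
      rw [h9, h4, CharTwo.two_eq_zero, zero_mul, sub_zero, CharTwo.add_self_eq_zero]
    exact sub_eq_zero.1 (mul_self_eq_zero.1 h8)
  apply Subtype.ext
  ext i j
  fin_cases i <;> fin_cases j
  · exact h5
  · exact h1
  · exact h0
  · exact h3.symm.trans h5

end mat

variable {I W Y : Type*} [Fintype I] [DecidableEq I] [Group W] [Group Y] {M : CoxeterMatrix I}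
  {cs : CoxeterSystem M W} {A : I → I → ℤ} {h : IsCartan M A} {T : Subgroup Y} {n : I → Y}
  {X : (I → ℤ) → Subgroup Y}

section one

variable {a b : I} {F : Type*} [Field F] [Finite F] [CharP F 2] {φ : (SL2 F) →* Y} (N : Nd cs h T n X a φ)
  (R : RGD cs h 2 T n X) (hT : ∀ x ∈ T, ∀ y ∈ T, x * y = y * x) (ho : Orth A {a} {b})

include N R

theorem cen_MJ : ∀ z ∈ MJ cs h X {a}, (∀ m ∈ MJ cs h X {a}, z * m = m * z) → z = 1 := by
  intro z hz hc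
  rw [← range_eq_MJ N R] at hz
  obtain ⟨s, rfl⟩ := hz
  have h5 : ∀ s', s * s' = s' * s := fun s' => N.injective R (by
    rw [map_mul, map_mul]
    exact hc _ ((range_eq_MJ N R) ▸ (⟨s', rfl⟩ : φ s' ∈ φ.range)))
  rw [center_trivial (h5 _) (h5 _), map_one]

include hT in
theorem inn_MJ : ∀ t ∈ T, ∃ x ∈ MJ cs h X {a}, ∀ m ∈ MJ cs h X {a}, t * m * t⁻¹ = x * m * x⁻¹ := by
  intro t ht
  obtain ⟨u, hu, z, hzT, rfl, hzc⟩ := N.exists_dec R hT ht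
  refine ⟨φ (hS u), (range_eq_MJ N R) ▸ (⟨hS u, rfl⟩ : φ (hS u) ∈ φ.range), fun m hm => ?_⟩
  rw [← range_eq_MJ N R] at hm
  obtain ⟨s, rfl⟩ := hm
  calc φ (hS u) * z * φ s * (φ (hS u) * z)⁻¹ = φ (hS u) * (z * φ s) * z⁻¹ * (φ (hS u))⁻¹ := by group
    _ = φ (hS u) * (φ s * z) * z⁻¹ * (φ (hS u))⁻¹ := by rw [hzc]
    _ = _ := by group

omit N R [Finite F] [CharP F 2] in
/-- the projection of the node `a` (`J = {a, b}`) -/
structure Pr (cs : CoxeterSystem M W) (h : IsCartan M A) (T : Subgroup Y) (X : (I → ℤ) → Subgroup Y) (J : Set I)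
    (b : I) (φ : (SL2 F) →* Y) (π : ↥(PJ cs h T X J) →* (SL2 F)) : Prop where
  fix : ∀ s (hs : φ s ∈ PJ cs h T X J), π ⟨φ s, hs⟩ = s
  vj : ∀ v ∈ VJ cs h X J, ∀ hv : v ∈ PJ cs h T X J, π ⟨v, hv⟩ = 1
  mb : ∀ m ∈ MJ cs h X {b}, ∀ hm : m ∈ PJ cs h T X J, π ⟨m, hm⟩ = 1
  tor : ∀ t ∈ T, ∀ ht : t ∈ PJ cs h T X J, ∃ u : F, u ≠ 0 ∧ π ⟨t, ht⟩ = hS u

include hT ho in
/-- **The projection exists.** -/
theorem exists_pr [Finite W] {J : Set I} (hJ : J = {a} ∪ {b}) : ∃ π : ↥(PJ cs h T X J) →* (SL2 F),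
    Pr cs h T X J b φ π := by
  subst hJ
  obtain ⟨c, hc⟩ := H627.Gow.exists_ret R ho (cen_MJ N R) (inn_MJ N R hT)
  let E : (SL2 F) ≃* ↥(MJ cs h X {a}) :=
    (MonoidHom.ofInjective (N.injective R)).trans (MulEquiv.subgroupCongr (range_eq_MJ N R))
  have hE : ∀ s, ((E s : ↥(MJ cs h X {a})) : Y) = φ s := fun s => rfl
  have hval : ∀ (x : ↥(PJ cs h T X ({a} ∪ {b}))) (s : SL2 F), ((c x : ↥(MJ cs h X {a})) : Y) = φ s →
      E.symm (c x) = s := by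
    intro x s hx
    rw [MulEquiv.symm_apply_eq]
    exact Subtype.ext (hx.trans (hE s).symm)
  refine ⟨E.symm.toMonoidHom.comp c, fun s hs => ?_, fun v hv hv' => ?_, fun m hm hm' => ?_, fun t ht ht' => ?_⟩
  · refine hval _ _ ?_
    have h1 : φ s ∈ MJ cs h X {a} := (range_eq_MJ N R) ▸ (⟨s, rfl⟩ : φ s ∈ φ.range)
    exact congrArg Subtype.val (hc.fix (φ s) h1)
  · refine hval _ _ ?_
    rw [map_one]
    exact congrArg Subtype.val (hc.killV v hv)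
  · refine hval _ _ ?_
    rw [map_one]
    exact congrArg Subtype.val (hc.killM m hm)
  · obtain ⟨u, hu, z, hzT, e, hzc⟩ := N.exists_dec R hT ht
    refine ⟨u, hu, hval _ _ ?_⟩
    have hz1 : c ⟨z, LJ_le_PJ (T_le_LJ hzT)⟩ = 1 := by
      apply Subtype.ext
      refine cen_MJ N R _ (c _).2 fun m hm => ?_
      have h1 : z * m * z⁻¹ = m := by
        have hm' := hm
        rw [← range_eq_MJ N R] at hm'
        obtain ⟨s, rfl⟩ := hm'
        rw [hzc, mul_inv_cancel_right]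
      have h2 := hc.conj_eq R (T_le_LJ hzT) hm (by rw [h1]; exact hm)
      rw [h1] at h2
      rw [eq_mul_inv_iff_mul_eq] at h2
      exact h2.symm
    have h1 : φ (hS u) ∈ MJ cs h X {a} := (range_eq_MJ N R) ▸ (⟨hS u, rfl⟩ : φ (hS u) ∈ φ.range)
    have h2 : (⟨t, ht'⟩ : ↥(PJ cs h T X ({a} ∪ {b}))) =
        ⟨φ (hS u), H627.Gow.MJ_le_left h1⟩ * ⟨z, LJ_le_PJ (T_le_LJ hzT)⟩ := Subtype.ext e
    rw [h2, map_mul, hz1, mul_one]
    exact congrArg Subtype.val (hc.fix (φ (hS u)) h1)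

omit R [Finite F] [CharP F 2] in
theorem phi_up_mem (c : F) : φ (up c) ∈ RGD.B cs h T X :=
  RGD.U_le_B (RGD.le_Sup (S := RGD.Pos cs h) ⟨isRoot_sr cs h a, sr_nonneg a⟩ ((N.mem_X _).2 ⟨c, rfl⟩))

omit R [Finite F] [CharP F 2] in
/-- the upper triangular matrices lie in the Borel subgroup -/
theorem phi_Bo_mem {g : SL2 F} (hg : g ∈ Bo F) : φ g ∈ RGD.B cs h T X := by
  obtain ⟨u, hu, c, rfl⟩ := exists_of_Bo hg
  rw [map_mul]
  exact mul_mem (RGD.T_le_B (N.h1 u hu)) (phi_up_mem N c)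

theorem phi_mem_MJ (s : SL2 F) : φ s ∈ MJ cs h X {a} := (range_eq_MJ N R) ▸ (⟨s, rfl⟩ : φ s ∈ φ.range)

end one

section two

variable {a b : I} {F F' : Type*} [Field F] [Finite F] [CharP F 2] [Field F'] [Finite F'] [CharP F' 2]
  {φ : (SL2 F) →* Y} {φ' : (SL2 F') →* Y} (N : Nd cs h T n X a φ) (N' : Nd cs h T n X b φ')
  (R : RGD cs h 2 T n X) (ho : Orth A {a} {b}) {J : Set I} (hJ : J = {a} ∪ {b})
  {π : ↥(PJ cs h T X J) →* (SL2 F)} (P : Pr cs h T X J b φ π) {π' : ↥(PJ cs h T X J) →* (SL2 F')}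
  (P' : Pr cs h T X J a φ' π')

include hJ

theorem MJ_le_a : MJ cs h X {a} ≤ PJ cs h T X J := by
  subst hJ
  exact H627.Gow.MJ_le_left

theorem MJ_le_b : MJ cs h X {b} ≤ PJ cs h T X J := by
  subst hJ
  exact H627.Gow.MJ_le_right

theorem PJ_b_le : PJ cs h T X {b} ≤ PJ cs h T X J := by
  refine sup_le (sup_le (le_trans T_le_LJ LJ_le_PJ) (MJ_le_b hJ)) ?_
  exact le_trans (VJ_le_U _) (le_trans RGD.U_le_B B_le_PJ)

include N N' R in
theorem phi_comm [Finite W] (ho : Orth A {a} {b}) (s : SL2 F) (s' : SL2 F') : φ s * φ' s' = φ' s' * φ s :=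
  ho.comm R _ (phi_mem_MJ N R s) _ (phi_mem_MJ N' R s')

include ho R in
theorem exists_mul [Finite W] {m : Y} (hm : m ∈ MJ cs h X J) :
    ∃ m1 ∈ MJ cs h X {a}, ∃ m2 ∈ MJ cs h X {b}, m = m1 * m2 := by
  rw [hJ, ho.MJ_union] at hm
  have h1 : MJ cs h X {a} ≤ Subgroup.normalizer (MJ cs h X {b} : Set Y) := by
    intro x hx
    rw [Subgroup.mem_normalizer_iff]
    intro y
    constructor
    · intro hy
      rw [ho.comm R x hx y hy, mul_inv_cancel_right]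
      exact hy
    · intro hy
      have h2 := ho.comm R x hx _ hy
      have h3 : y = x⁻¹ * (x * y * x⁻¹) * x := by group
      rw [h3, mul_assoc, ← h2, inv_mul_cancel_left]
      exact hy
  have h2 : m ∈ ((MJ cs h X {a} ⊔ MJ cs h X {b} : Subgroup Y) : Set Y) := hm
  rw [Subgroup.coe_mul_of_left_le_normalizer_right _ _ h1, Set.mem_mul] at h2
  obtain ⟨m1, hm1, m2, hm2, e⟩ := h2
  exact ⟨m1, hm1, m2, hm2, e.symm⟩

include N N' ho P P' R in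
/-- the kernel of `(π, π')` lies in `B` -/
theorem mem_B_of_one [Finite W] {k : Y} (hk : k ∈ PJ cs h T X J) (h1 : π ⟨k, hk⟩ = 1) (h2 : π' ⟨k, hk⟩ = 1) :
    k ∈ RGD.B cs h T X := by
  obtain ⟨l, hl, v, hv, rfl⟩ := (mem_PJ R).1 hk
  obtain ⟨t, ht, m, hm, rfl⟩ := (mem_LJ_iff_mul R J).1 hl
  obtain ⟨m1, hm1, m2, hm2, rfl⟩ := exists_mul R ho hJ hm
  have q1 : m1 ∈ PJ cs h T X J := MJ_le_a hJ hm1
  have q2 : m2 ∈ PJ cs h T X J := MJ_le_b hJ hm2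
  have qt : t ∈ PJ cs h T X J := LJ_le_PJ (T_le_LJ ht)
  have qv : v ∈ PJ cs h T X J := VJ_le_PJ hv
  have e : (⟨t * (m1 * m2) * v, hk⟩ : ↥(PJ cs h T X J)) = ⟨t, qt⟩ * (⟨m1, q1⟩ * ⟨m2, q2⟩) * ⟨v, qv⟩ := rfl
  rw [e, map_mul, map_mul, map_mul] at h1 h2
  rw [P.vj v hv, P.mb m2 hm2, mul_one, mul_one] at h1
  rw [P'.vj v hv, P'.mb m1 hm1, one_mul, mul_one] at h2
  obtain ⟨u, hu, eu⟩ := P.tor t ht qt
  obtain ⟨u', hu', eu'⟩ := P'.tor t ht qt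
  rw [eu] at h1
  rw [eu'] at h2
  have f1 : m1 ∈ T := by
    rw [← range_eq_MJ N R] at hm1
    obtain ⟨s, rfl⟩ := hm1
    rw [P.fix s] at h1
    rw [eq_inv_of_mul_eq_one_right h1, map_inv]
    exact inv_mem (N.h1 u hu)
  have f2 : m2 ∈ T := by
    rw [← range_eq_MJ N' R] at hm2
    obtain ⟨s, rfl⟩ := hm2
    rw [P'.fix s] at h2
    rw [eq_inv_of_mul_eq_one_right h2, map_inv]
    exact inv_mem (N'.h1 u' hu')
  exact mul_mem (RGD.T_le_B (mul_mem ht (mul_mem f1 f2))) (RGD.U_le_B (VJ_le_U _ hv))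

include N N' ho P R in
/-- the Borel subgroup is mapped to upper triangular matrices -/
theorem pi_B [Finite W] {x : Y} (hx : x ∈ PJ cs h T X J) (hB : x ∈ RGD.B cs h T X) : π ⟨x, hx⟩ ∈ Bo F := by
  have hU : RGD.Sup X (RGD.Pos cs h) ≤ ((Bo F).comap π).map (Subgroup.subtype _) := by
    refine RGD.Sup_le fun y hy => ?_
    intro z hz
    rcases mem_PosJ_or_NotJ J hy.1 hy.2 with h1 | h1
    · have h2 : y ∈ RootsJ cs h ({a} ∪ {b}) := hJ ▸ PosJ_subset J h1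
      rcases ho.roots h2 with h3 | h3
      · rcases rootsJ_single h3 with rfl | rfl
        · obtain ⟨c, rfl⟩ := (N.mem_X z).1 hz
          have q : φ (up c) ∈ PJ cs h T X J := MJ_le_a hJ (phi_mem_MJ N R _)
          refine ⟨⟨φ (up c), q⟩, ?_, rfl⟩
          change π ⟨φ (up c), q⟩ ∈ Bo F
          rw [P.fix]
          exact up_mem_Bo c
        · exact absurd hy.2 (fun h4 => by
            have h5 : (0 : ℤ) ≤ (-sr a : I → ℤ) a := h4 a
            rw [Pi.neg_apply, sr_self] at h5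
            omega)
      · have q : z ∈ MJ cs h X {b} := RGD.le_Sup h3 hz
        refine ⟨⟨z, MJ_le_b hJ q⟩, ?_, rfl⟩
        change π ⟨z, _⟩ ∈ Bo F
        rw [P.mb z q]
        exact one_mem _
    · have q : z ∈ VJ cs h X J := RGD.le_Sup h1 hz
      refine ⟨⟨z, VJ_le_PJ q⟩, ?_, rfl⟩
      change π ⟨z, _⟩ ∈ Bo F
      rw [P.vj z q]
      exact one_mem _
  obtain ⟨t, ht, u, hu, e⟩ := R.mem_B.1 hB
  subst e
  have qt : t ∈ PJ cs h T X J := LJ_le_PJ (T_le_LJ ht)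
  obtain ⟨⟨u', hu'⟩, h1, h2⟩ := hU hu
  have h3 : u' = u := h2
  subst h3
  have e : (⟨t * u', hx⟩ : ↥(PJ cs h T X J)) = ⟨t, qt⟩ * ⟨u', hu'⟩ := rfl
  obtain ⟨w, hw, ew⟩ := P.tor t ht qt
  rw [e, map_mul, ew]
  exact mul_mem (hS_mem_Bo hw) h1

include N N' ho P P' R in
/-- decomposition of an element of `P_J` -/
theorem dec_mem_B [Finite W] {x : Y} (hx : x ∈ PJ cs h T X J) :
    (φ (π ⟨x, hx⟩) * φ' (π' ⟨x, hx⟩))⁻¹ * x ∈ RGD.B cs h T X := by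
  have q1 : φ (π ⟨x, hx⟩) ∈ PJ cs h T X J := MJ_le_a hJ (phi_mem_MJ N R _)
  have q2 : φ' (π' ⟨x, hx⟩) ∈ PJ cs h T X J := MJ_le_b hJ (phi_mem_MJ N' R _)
  have hk : (φ (π ⟨x, hx⟩) * φ' (π' ⟨x, hx⟩))⁻¹ * x ∈ PJ cs h T X J := mul_mem (inv_mem (mul_mem q1 q2)) hx
  have e : (⟨_, hk⟩ : ↥(PJ cs h T X J)) = (⟨_, q1⟩ * ⟨_, q2⟩)⁻¹ * ⟨x, hx⟩ := rfl
  refine mem_B_of_one N N' R ho hJ P P' hk ?_ ?_
  · rw [e, map_mul, map_inv, map_mul, P.fix, P.mb _ (phi_mem_MJ N' R _), mul_one, inv_mul_cancel]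
  · rw [e, map_mul, map_inv, map_mul, P'.fix, P'.mb _ (phi_mem_MJ N R _), one_mul, inv_mul_cancel]

include N N' ho P P' R in
/-- **the parabolic subgroup `P_b`** -/
theorem mem_PJ_iff [Finite W] {x : Y} (hx : x ∈ PJ cs h T X J) : x ∈ PJ cs h T X {b} ↔ π ⟨x, hx⟩ ∈ Bo F := by
  constructor
  · intro hb
    obtain ⟨l, hl, v, hv, rfl⟩ := (mem_PJ R).1 hb
    obtain ⟨t, ht, m, hm, rfl⟩ := (mem_LJ_iff_mul R {b}).1 hl
    have qt : t ∈ PJ cs h T X J := LJ_le_PJ (T_le_LJ ht)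
    have qm : m ∈ PJ cs h T X J := MJ_le_b hJ hm
    have hvB : v ∈ RGD.B cs h T X := RGD.U_le_B (VJ_le_U _ hv)
    have qv : v ∈ PJ cs h T X J := B_le_PJ hvB
    have e : (⟨t * m * v, hx⟩ : ↥(PJ cs h T X J)) = ⟨t, qt⟩ * ⟨m, qm⟩ * ⟨v, qv⟩ := rfl
    rw [e, map_mul, map_mul, P.mb m hm, mul_one]
    exact mul_mem (pi_B N N' R ho hJ P qt (RGD.T_le_B ht)) (pi_B N N' R ho hJ P qv hvB)
  · intro hb
    have h1 := dec_mem_B N N' R ho hJ P P' hx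
    have e : x = φ (π ⟨x, hx⟩) * φ' (π' ⟨x, hx⟩) * ((φ (π ⟨x, hx⟩) * φ' (π' ⟨x, hx⟩))⁻¹ * x) := by group
    rw [e]
    refine mul_mem (mul_mem (B_le_PJ (phi_Bo_mem N hb)) ?_) (B_le_PJ h1)
    exact LJ_le_PJ (MJ_le_LJ _ (phi_mem_MJ N' R _))

include N N' ho P P' R in
/-- **the Borel subgroup** -/
theorem mem_B_iff [Finite W] {x : Y} (hx : x ∈ PJ cs h T X J) :
    x ∈ RGD.B cs h T X ↔ π ⟨x, hx⟩ ∈ Bo F ∧ π' ⟨x, hx⟩ ∈ Bo F' := by
  have hJ' : J = {b} ∪ {a} := by rw [hJ, Set.union_comm]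
  constructor
  · intro hB
    exact ⟨pi_B N N' R ho hJ P hx hB, pi_B N' N R ho.symm hJ' P' hx hB⟩
  · rintro ⟨h1, h2⟩
    have h3 := dec_mem_B N N' R ho hJ P P' hx
    have e : x = φ (π ⟨x, hx⟩) * φ' (π' ⟨x, hx⟩) * ((φ (π ⟨x, hx⟩) * φ' (π' ⟨x, hx⟩))⁻¹ * x) := by group
    rw [e]
    exact mul_mem (mul_mem (phi_Bo_mem N h1) (phi_Bo_mem N' h2)) h3

include N N' ho P P' R in
/-- **`ker π` is the core of `P_b`.** -/
theorem eq_one_iff [Finite W] {S : Subgroup Y} (hS : ∀ s, φ s ∈ S) {x : Y} (hx : x ∈ PJ cs h T X J) :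
    π ⟨x, hx⟩ = 1 ↔ ∀ g ∈ PJ cs h T X J, g ∈ S → g * x * g⁻¹ ∈ PJ cs h T X {b} := by
  constructor
  · intro h1 g hg _
    have hq : g * x * g⁻¹ ∈ PJ cs h T X J := mul_mem (mul_mem hg hx) (inv_mem hg)
    rw [mem_PJ_iff N N' R ho hJ P P' hq]
    have e : (⟨g * x * g⁻¹, hq⟩ : ↥(PJ cs h T X J)) = ⟨g, hg⟩ * ⟨x, hx⟩ * ⟨g, hg⟩⁻¹ := rfl
    rw [e, map_mul, map_mul, h1, mul_one, map_inv, mul_inv_cancel]
    exact one_mem _
  · intro h1
    refine eq_one_of_core fun s => ?_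
    have hg : φ s ∈ PJ cs h T X J := MJ_le_a hJ (phi_mem_MJ N R s)
    have hq : φ s * x * (φ s)⁻¹ ∈ PJ cs h T X J := mul_mem (mul_mem hg hx) (inv_mem hg)
    have h2 := (mem_PJ_iff N N' R ho hJ P P' hq).1 (h1 _ hg (hS s))
    have e : (⟨φ s * x * (φ s)⁻¹, hq⟩ : ↥(PJ cs h T X J)) = ⟨φ s, hg⟩ * ⟨x, hx⟩ * ⟨φ s, hg⟩⁻¹ := rfl
    rw [e, map_mul, map_mul, map_inv, P.fix] at h2
    exact h2

end two

end Cfsg.Agent.H557.R2
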